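import Mathlib

/-!
# Linear maps which "are" an `I`-adic completion map
-/

set_option autoImplicit false
universe u
open CategoryTheory

namespace Groth.Agent.H9.DCF

variable {A : Type u} [CommRing A] (I : Ideal A)

/-- `f : M ⟶ M'` identifies `M'` with the `I`-adic completion of `M` -/
def IsComplHom {M M' : ModuleCat.{u} A} (f : M ⟶ M') : Prop :=
  ∃ e : M' ≃ₗ[A] AdicCompletion I M, ∀ x : M, e (f.hom x) = AdicCompletion.of I M x

/-- `A`-linear equivalence of completions induced by a linear equivalence -/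
noncomputable def congrA {M N : Type u} [AddCommGroup M] [Module A M] [AddCommGroup N]
    [Module A N] (f : M ≃ₗ[A] N) : AdicCompletion I M ≃ₗ[A] AdicCompletion I N :=
  (AdicCompletion.congr I f).restrictScalars A

lemma congrA_of {M N : Type u} [AddCommGroup M] [Module A M] [AddCommGroup N]
    [Module A N] (f : M ≃ₗ[A] N) (x : M) :
    congrA I f (AdicCompletion.of I M x) = AdicCompletion.of I N (f x) := rfl

variable {I}

lemma IsComplHom.of_square {M M' M1 M1' : ModuleCat.{u} A} {f : M ⟶ M'} {f1 : M1 ⟶ M1'}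
    (a : M ⟶ M1) (a' : M' ⟶ M1') [IsIso a] [IsIso a'] (comm : f ≫ a' = a ≫ f1)
    (h : IsComplHom I f1) : IsComplHom I f := by
  obtain ⟨e1, he1⟩ := h
  refine ⟨(asIso a').toLinearEquiv.trans (e1.trans (congrA I (asIso a).symm.toLinearEquiv)), ?_⟩
  intro x
  have h1 : a'.hom (f.hom x) = f1.hom (a.hom x) := by
    have := congrArg (fun g => g.hom x) comm
    exact this
  show congrA I (asIso a).symm.toLinearEquiv (e1 (a'.hom (f.hom x))) = _
  rw [h1, he1, congrA_of]
  congr 1
  show (inv a).hom (a.hom x) = x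
  have := congrArg (fun g => g.hom x) (IsIso.hom_inv_id a)
  exact this

lemma IsComplHom.of_square' {M M' M1 M1' : ModuleCat.{u} A} {f : M ⟶ M'} {f1 : M1 ⟶ M1'}
    (a : M ⟶ M1) (a' : M' ⟶ M1') [IsIso a] [IsIso a'] (comm : f ≫ a' = a ≫ f1)
    (h : IsComplHom I f) : IsComplHom I f1 := by
  refine IsComplHom.of_square (inv a) (inv a') ?_ h
  rw [IsIso.comp_inv_eq, Category.assoc, comm, IsIso.inv_hom_id_assoc]

lemma IsComplHom.of_subsingleton {M M' : ModuleCat.{u} A} (f : M ⟶ M') [Subsingleton M]
    [Subsingleton M'] : IsComplHom I f := by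
  haveI : Subsingleton (AdicCompletion I M) := by
    refine ⟨fun x y => ?_⟩
    apply AdicCompletion.ext
    intro n
    exact Subsingleton.elim _ _
  refine ⟨⟨⟨⟨fun _ => 0, fun _ _ => Subsingleton.elim _ _⟩, fun _ _ => Subsingleton.elim _ _⟩,
    fun _ => 0, fun _ => Subsingleton.elim _ _, fun _ => Subsingleton.elim _ _⟩, ?_⟩
  intro x
  exact Subsingleton.elim _ _

/-- the canonical map to the completion -/
lemma isComplHom_of (N : Type u) [AddCommGroup N] [Module A N] :
    IsComplHom I (ModuleCat.ofHom (AdicCompletion.of I N) :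
      ModuleCat.of A N ⟶ ModuleCat.of A (AdicCompletion I N)) :=
  ⟨LinearEquiv.refl A _, fun _ => rfl⟩

end Groth.Agent.H9.DCF
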