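import Mathlib
import Groth.Agent.H9.ExtBC.Main
import Groth.Agent.H12.Bridge

/-!
# `Ext^q_A(T, N) ≃ Ext^q_A(T, N^∧)` for `I`-power torsion `T` and finite `N` over a Noetherian ring
-/

set_option autoImplicit false
universe u
open CategoryTheory CategoryTheory.Limits Abelian TensorProduct ChangeOfRings

attribute [local instance] HasDerivedCategory.standard

namespace Groth.Agent.H9.DCF

open Groth.Agent.H9.ExtBC

variable {A : Type u} [CommRing A] (I : Ideal A)

lemma surjective_mk_comp_algebraMap (hI : I.FG) :
    Function.Surjective ((Ideal.Quotient.mk (I.map (algebraMap A (AdicCompletion I A)))).comp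
      (algebraMap A (AdicCompletion I A))) := by
  intro y
  obtain ⟨b, rfl⟩ := Ideal.Quotient.mk_surjective y
  obtain ⟨a, ha⟩ := Ideal.Quotient.mk_surjective (AdicCompletion.evalOneₐ I b)
  refine ⟨a, ?_⟩
  rw [RingHom.comp_apply, Ideal.Quotient.eq, ← AdicCompletion.ker_evalOneₐ_eq_map I hI,
    RingHom.mem_ker, map_sub]
  have h1 : (AdicCompletion.evalOneₐ I).toRingHom (algebraMap A (AdicCompletion I A) a) =
      Ideal.Quotient.mk I a := AdicCompletion.evalOneₐ_of I a
  have h2 : (AdicCompletion.evalOneₐ I).toRingHom b = Ideal.Quotient.mk I a := ha.symm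
  rw [h1, h2, sub_self]

lemma ker_mk_comp_algebraMap (hI : I.FG) :
    RingHom.ker ((Ideal.Quotient.mk (I.map (algebraMap A (AdicCompletion I A)))).comp
      (algebraMap A (AdicCompletion I A))) = I := by
  ext a
  rw [RingHom.mem_ker, RingHom.comp_apply, Ideal.Quotient.eq_zero_iff_mem,
    ← AdicCompletion.ker_evalOneₐ_eq_map I hI, RingHom.mem_ker]
  have h1 : (AdicCompletion.evalOneₐ I).toRingHom (algebraMap A (AdicCompletion I A) a) =
      Ideal.Quotient.mk I a := AdicCompletion.evalOneₐ_of I a
  rw [h1, Ideal.Quotient.eq_zero_iff_mem]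

variable [IsNoetherianRing A] (N : Type u) [AddCommGroup N] [Module A N] [Module.Finite A N]

/-- `Â ⊗ N` (restricted to `A`) is `N^∧` -/
noncomputable def θlin :
    (Φ A (AdicCompletion I A)).obj (ModuleCat.of A N) ≃ₗ[A] AdicCompletion I N where
  toFun t := AdicCompletion.ofTensorProductEquivOfFiniteNoetherian I N
    (Groth.Agent.H12.BC.bridge (B := AdicCompletion I A) (ModuleCat.of A N) t)
  invFun y := (Groth.Agent.H12.BC.bridge (B := AdicCompletion I A) (ModuleCat.of A N)).symm
    ((AdicCompletion.ofTensorProductEquivOfFiniteNoetherian I N).symm y)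
  map_add' t t' := by
    have h : ∀ s s' : (F A (AdicCompletion I A)).obj (ModuleCat.of A N),
        AdicCompletion.ofTensorProductEquivOfFiniteNoetherian I N
          (Groth.Agent.H12.BC.bridge (B := AdicCompletion I A) (ModuleCat.of A N) (s + s')) =
        AdicCompletion.ofTensorProductEquivOfFiniteNoetherian I N
          (Groth.Agent.H12.BC.bridge (B := AdicCompletion I A) (ModuleCat.of A N) s) +
        AdicCompletion.ofTensorProductEquivOfFiniteNoetherian I N
          (Groth.Agent.H12.BC.bridge (B := AdicCompletion I A) (ModuleCat.of A N) s') := by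
      intro s s'
      rw [map_add, map_add]
    exact h t t'
  map_smul' a t := by
    have hz : a • t = (algebraMap A (AdicCompletion I A) a) •
        (show ((F A (AdicCompletion I A)).obj (ModuleCat.of A N)) from t) :=
      ModuleCat.restrictScalars.smul_def (algebraMap A (AdicCompletion I A))
        (M := (F A (AdicCompletion I A)).obj (ModuleCat.of A N)) a t
    have h : ∀ (b : AdicCompletion I A) (s : (F A (AdicCompletion I A)).obj (ModuleCat.of A N)),
        AdicCompletion.ofTensorProductEquivOfFiniteNoetherian I N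
          (Groth.Agent.H12.BC.bridge (B := AdicCompletion I A) (ModuleCat.of A N) (b • s)) =
        b • AdicCompletion.ofTensorProductEquivOfFiniteNoetherian I N
          (Groth.Agent.H12.BC.bridge (B := AdicCompletion I A) (ModuleCat.of A N) s) := by
      intro b s
      rw [map_smul, map_smul]
    show AdicCompletion.ofTensorProductEquivOfFiniteNoetherian I N
        (Groth.Agent.H12.BC.bridge (B := AdicCompletion I A) (ModuleCat.of A N) (a • t)) = _
    rw [hz]
    refine (h _ _).trans ?_
    rw [RingHom.id_apply, algebraMap_smul]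
  left_inv t := by
    show (Groth.Agent.H12.BC.bridge (B := AdicCompletion I A) (ModuleCat.of A N)).symm
      ((AdicCompletion.ofTensorProductEquivOfFiniteNoetherian I N).symm
        (AdicCompletion.ofTensorProductEquivOfFiniteNoetherian I N
          (Groth.Agent.H12.BC.bridge (B := AdicCompletion I A) (ModuleCat.of A N) t))) = t
    rw [LinearEquiv.symm_apply_apply]
    exact LinearEquiv.symm_apply_apply _ _
  right_inv y := by
    show AdicCompletion.ofTensorProductEquivOfFiniteNoetherian I N
      (Groth.Agent.H12.BC.bridge (B := AdicCompletion I A) (ModuleCat.of A N)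
        ((Groth.Agent.H12.BC.bridge (B := AdicCompletion I A) (ModuleCat.of A N)).symm
          ((AdicCompletion.ofTensorProductEquivOfFiniteNoetherian I N).symm y))) = y
    rw [LinearEquiv.apply_symm_apply, LinearEquiv.apply_symm_apply]

/-- the isomorphism in `ModuleCat` -/
noncomputable def θ :
    (Φ A (AdicCompletion I A)).obj (ModuleCat.of A N) ≅ ModuleCat.of A (AdicCompletion I N) :=
  (θlin I N).toModuleIso

lemma unit_θ :
    (adjFG A (AdicCompletion I A)).unit.app (ModuleCat.of A N) ≫ (θ I N).hom =
      ModuleCat.ofHom (AdicCompletion.of I N) := by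
  apply ModuleCat.hom_ext
  apply LinearMap.ext
  intro x
  show AdicCompletion.ofTensorProductEquivOfFiniteNoetherian I N
    (Groth.Agent.H12.BC.bridge (B := AdicCompletion I A) (ModuleCat.of A N)
      (((adjFG A (AdicCompletion I A)).unit.app (ModuleCat.of A N)).hom x)) = AdicCompletion.of I N x
  have h3 : AdicCompletion.ofTensorProductEquivOfFiniteNoetherian I N
      (Groth.Agent.H12.BC.bridge (B := AdicCompletion I A) (ModuleCat.of A N)
        (((adjFG A (AdicCompletion I A)).unit.app (ModuleCat.of A N)).hom x)) =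
      AdicCompletion.ofTensorProductEquivOfFiniteNoetherian I N
        ((1 : AdicCompletion I A) ⊗ₜ[A] (show N from x)) := rfl
  rw [h3, AdicCompletion.ofTensorProductEquivOfFiniteNoetherian_apply,
    AdicCompletion.ofTensorProduct_tmul, one_smul]

/-- **Ext-level statement** -/
theorem bijective_ext_comp_of (T : ModuleCat.{u} A)
    (hT : ∀ m : T, ∃ n : ℕ, ∀ a ∈ I ^ n, a • m = 0) (q : ℕ) :
    Function.Bijective (fun x : Ext.{u} T (ModuleCat.of A N) q =>
      x.comp (Ext.mk₀ (ModuleCat.ofHom (AdicCompletion.of I N))) (add_zero q)) := by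
  have hI : I.FG := IsNoetherian.noetherian I
  have h1 := good_main (B := AdicCompletion I A) I hI (surjective_mk_comp_algebraMap I hI)
    (ker_mk_comp_algebraMap I hI) T hT (ModuleCat.of A N) q
  have h2 : Function.Bijective (fun y : Ext.{u} T ((Φ A (AdicCompletion I A)).obj
      (ModuleCat.of A N)) q => y.comp (Ext.mk₀ (θ I N).hom) (add_zero q)) := by
    refine ⟨fun y y' h => ?_, fun z => ⟨z.comp (Ext.mk₀ (θ I N).inv) (add_zero q), ?_⟩⟩
    · have := congrArg (fun w => w.comp (Ext.mk₀ (θ I N).inv) (add_zero q)) h
      simp only [Ext.comp_assoc_of_third_deg_zero, Ext.mk₀_comp_mk₀, Iso.hom_inv_id,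
        Ext.comp_mk₀_id] at this
      exact this
    · simp only [Ext.comp_assoc_of_third_deg_zero, Ext.mk₀_comp_mk₀, Iso.inv_hom_id,
        Ext.comp_mk₀_id]
  have key : (fun x : Ext.{u} T (ModuleCat.of A N) q =>
      x.comp (Ext.mk₀ (ModuleCat.ofHom (AdicCompletion.of I N))) (add_zero q)) =
      (fun y : Ext.{u} T ((Φ A (AdicCompletion I A)).obj (ModuleCat.of A N)) q =>
        y.comp (Ext.mk₀ (θ I N).hom) (add_zero q)) ∘
      (uMap (Φ A (AdicCompletion I A)) (adjFG A (AdicCompletion I A)).unit T
        (ModuleCat.of A N) q) := by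
    funext x
    simp only [Function.comp_apply, uMap_apply, Ext.comp_assoc_of_third_deg_zero,
      Ext.mk₀_comp_mk₀, unit_θ]
  rw [key]
  exact h2.comp h1

end Groth.Agent.H9.DCF
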