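import Mathlib
import Groth.Agent.H9.DCF.ExtCompl
import Groth.Agent.H9.RG.HDI3
import Groth.Agent.H9.LD.TorsionHom
import Groth.Agent.H58.LCBasic

/-!
# The derived completion of a finite module over a Noetherian ring is its adic completion
-/

set_option autoImplicit false
universe u
open CategoryTheory CategoryTheory.Limits CategoryTheory.Pretriangulated Opposite

attribute [local instance] HasDerivedCategory.standard

namespace Groth.Agent.H9.DCF

open Groth.Agent.H9.RG Groth.Agent.H9.DC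

variable {A : Type u} [CommRing A] [IsNoetherianRing A] (I : Ideal A)
  (N : Type u) [AddCommGroup N] [Module A N] [Module.Finite A N]

/-- the map `N[0] ⟶ N^∧[0]` -/
noncomputable def c0 : Dual.inD A N ⟶ Dual.inD A (AdicCompletion I N) :=
  (DerivedCategory.singleFunctor (ModuleCat.{u} A) 0).map
    (ModuleCat.ofHom (AdicCompletion.of I N))

lemma isPowerTorsion_Q (n : ℕ) :
    ∀ m : Groth.Agent.H58.LC.Q I n, ∃ k : ℕ, ∀ a ∈ I ^ k, a • m = 0 := by
  intro m
  refine ⟨n, fun a ha => ?_⟩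
  obtain ⟨b, rfl⟩ := Submodule.Quotient.mk_surjective _ m
  rw [← Submodule.Quotient.mk_smul, Submodule.Quotient.mk_eq_zero, smul_eq_mul]
  exact Ideal.mul_mem_right _ _ ha

lemma bijective_postcomp_c0_nat (n q : ℕ) :
    Function.Bijective (fun g : Sn I n ⟶ (Dual.inD A N)⟦(q : ℤ)⟧ => g ≫ (c0 I N)⟦(q : ℤ)⟧') := by
  have h1 := bijective_ext_comp_of I N (Groth.Agent.H58.LC.Q I n) (isPowerTorsion_Q I n) q
  let e1 := Abelian.Ext.homEquiv (X := Groth.Agent.H58.LC.Q I n) (Y := ModuleCat.of A N) (n := q)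
  let e2 := Abelian.Ext.homEquiv (X := Groth.Agent.H58.LC.Q I n)
    (Y := ModuleCat.of A (AdicCompletion I N)) (n := q)
  have key : (fun g : Sn I n ⟶ (Dual.inD A N)⟦(q : ℤ)⟧ => g ≫ (c0 I N)⟦(q : ℤ)⟧') =
      e2 ∘ (fun x : Abelian.Ext (Groth.Agent.H58.LC.Q I n) (ModuleCat.of A N) q =>
        x.comp (Abelian.Ext.mk₀ (ModuleCat.ofHom (AdicCompletion.of I N))) (add_zero q)) ∘
        e1.symm := by
    funext g
    obtain ⟨x, rfl⟩ := e1.surjective g
    simp only [Function.comp_apply, Equiv.symm_apply_apply]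
    have h2 := Abelian.Ext.comp_hom x
      (Abelian.Ext.mk₀ (ModuleCat.ofHom (AdicCompletion.of I N))) (add_zero q)
    refine Eq.trans ?_ h2.symm
    rw [Abelian.Ext.mk₀_hom, ShiftedHom.comp_mk₀]
    rfl
  rw [key]
  exact e2.bijective.comp (h1.comp e1.symm.bijective)

lemma bijective_postcomp_c0 (n : ℕ) (q : ℤ) :
    Function.Bijective (fun g : Sn I n ⟶ (Dual.inD A N)⟦q⟧ => g ≫ (c0 I N)⟦q⟧') := by
  by_cases hq : q < 0
  · have h1 := Groth.Agent.H9.ExtBC.subsingleton_hom_neg (Groth.Agent.H58.LC.Q I n)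
      (ModuleCat.of A N) q hq
    have h2 := Groth.Agent.H9.ExtBC.subsingleton_hom_neg (Groth.Agent.H58.LC.Q I n)
      (ModuleCat.of A (AdicCompletion I N)) q hq
    refine ⟨fun a b _ => h1.elim a b, fun y => ⟨0, h2.elim _ _⟩⟩
  · obtain ⟨k, rfl⟩ := Int.eq_ofNat_of_zero_le (not_lt.mp hq)
    exact bijective_postcomp_c0_nat I N n k


omit [IsNoetherianRing A] in
/-- an object of `D(A)` with vanishing cohomology is zero -/
lemma isZero_of_subsingleton_HD (K : Dual.D A) (h : ∀ n : ℤ, Subsingleton (Dual.HD A K n)) :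
    IsZero K := by
  have hz : ∀ n : ℤ, IsZero ((DerivedCategory.homologyFunctor (ModuleCat.{u} A) n).obj K) :=
    fun n => by
      haveI := h n
      exact ModuleCat.isZero_of_subsingleton _
  have hiso : IsIso (0 : K ⟶ K) := by
    rw [DerivedCategory.isIso_iff]
    intro n
    rw [Functor.map_zero]
    exact ⟨0, (hz n).eq_of_src _ _, (hz n).eq_of_src _ _⟩
  rw [IsZero.iff_id_eq_zero]
  have := IsIso.hom_inv_id (0 : K ⟶ K)
  rw [zero_comp] at this
  exact this.symm

/-- vanishing of `Hom(A/I^n, C[q])` for a cone `C` of `c0` -/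
lemma subsingleton_hom_cone {C : Dual.D A} (g : Dual.inD A (AdicCompletion I N) ⟶ C)
    (h : C ⟶ (Dual.inD A N)⟦(1 : ℤ)⟧)
    (hT : Triangle.mk (c0 I N) g h ∈ distTriang (Dual.D A)) (n : ℕ) (q : ℤ) :
    Subsingleton (Sn I n ⟶ C⟦q⟧) := by
  let F := preadditiveCoyoneda.obj (op (Sn I n))
  have h1 : ∀ q : ℤ, IsIso ((F.shift q).map (c0 I N)) := by
    intro q
    rw [ConcreteCategory.isIso_iff_bijective]
    exact bijective_postcomp_c0 I N n q
  have h2 : F.homologicalKernel.trW (c0 I N) := (F.mem_homologicalKernel_trW_iff _).2 h1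
  have h3 := (F.homologicalKernel.trW_iff_of_distinguished _ hT).1 h2
  have h4 : IsZero ((F.shift q).obj C) := (F.mem_homologicalKernel_iff _).1 h3 q
  exact AddCommGrpCat.subsingleton_of_isZero h4


omit [IsNoetherianRing A] in
lemma subsingleton_HDI (C : Dual.D A) (q : ℤ) (h : ∀ n : ℕ, Subsingleton (Sn I n ⟶ C⟦q⟧)) :
    Subsingleton (Dual2.HDI A I C q) := by
  refine ⟨fun x y => ?_⟩
  obtain ⟨j, α, rfl⟩ := colimit_exists_rep' (FD I q C) x
  obtain ⟨j', β, rfl⟩ := colimit_exists_rep' (FD I q C) y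
  have hα : α = 0 := (h j.unop.unop).elim _ _
  have hβ : β = 0 := (h j'.unop.unop).elim _ _
  rw [hα, hβ, map_zero, map_zero]

/-- `RΓ_I` kills the cone of `N[0] ⟶ N^∧[0]` -/
lemma isZero_RgammaI_cone [DRing.HasRgammaI I] {C : Dual.D A}
    (g : Dual.inD A (AdicCompletion I N) ⟶ C)
    (h : C ⟶ (Dual.inD A N)⟦(1 : ℤ)⟧)
    (hT : Triangle.mk (c0 I N) g h ∈ distTriang (Dual.D A)) :
    IsZero ((DRing.RgammaI I).obj C) := by
  apply isZero_of_subsingleton_HD
  intro q
  obtain ⟨e⟩ := nonempty_hd_equiv_hdi I q C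
  haveI := subsingleton_HDI I C q (fun n => subsingleton_hom_cone I N g h hT n q)
  exact e.toEquiv.subsingleton

/-- objects killed by `RΓ_I` are left orthogonal to derived complete objects -/
lemma subsingleton_hom_of_isZero_RgammaI [DRing.HasRgammaI I] (C L : Dual.D A)
    (hC : IsZero ((DRing.RgammaI I).obj C)) (hL : DRing.IsDerivedComplete I L) :
    Subsingleton (C ⟶ L) := by
  have h1 := Groth.Agent.H9.LD.locEq_RgammaIε_isDerivedComplete I C L hL
  refine ⟨fun a b => h1.1 (hC.eq_of_src _ _)⟩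

/-- **module case**: `N[0] ⟶ N^∧[0]` is a local equivalence for derived complete objects -/
theorem locEq_c0 : LocEq (DRing.IsDerivedComplete I) (c0 I N) := by
  haveI := hasRgammaI I
  obtain ⟨C, g, h, hT⟩ := distinguished_cocone_triangle (c0 I N)
  have hz := isZero_RgammaI_cone I N g h hT
  intro L hL
  have hs0 : Subsingleton (C ⟶ L) := subsingleton_hom_of_isZero_RgammaI I C L hz hL
  have hs1 : Subsingleton (C ⟶ L⟦(1 : ℤ)⟧) :=
    subsingleton_hom_of_isZero_RgammaI I C _ hz (isDerivedComplete_shift I L hL 1)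
  constructor
  · intro a b hab
    have h0 : c0 I N ≫ (a - b) = 0 := by
      rw [Preadditive.comp_sub, sub_eq_zero]
      exact hab
    obtain ⟨ψ, hψ⟩ := Triangle.yoneda_exact₂ _ hT (a - b) h0
    have hψ0 : ψ = 0 := hs0.elim _ _
    rw [hψ0, comp_zero] at hψ
    exact sub_eq_zero.1 hψ
  · intro k
    have hgen : ∀ m : C⟦(-1 : ℤ)⟧ ⟶ L, m = 0 := by
      intro m
      apply (shiftFunctor (Dual.D A) (1 : ℤ)).map_injective
      rw [Functor.map_zero]
      let e : (C⟦(-1 : ℤ)⟧)⟦(1 : ℤ)⟧ ≅ C :=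
        (shiftFunctorCompIsoId (Dual.D A) (-1) 1 (by omega)).app C
      have h5 : e.inv ≫ m⟦(1 : ℤ)⟧' = e.inv ≫ 0 := hs1.elim _ _
      exact (cancel_epi e.inv).1 h5
    have hk : (Triangle.mk (c0 I N) g h).invRotate.mor₁ ≫ k = 0 := hgen _
    obtain ⟨φ, hφ⟩ := Triangle.yoneda_exact₂ _ (inv_rot_of_distTriang _ hT) k hk
    exact ⟨φ, hφ.symm⟩

end Groth.Agent.H9.DCF
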