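import Mathlib
import Groth.Agent.H9.DCF.IsCompl
import Groth.Agent.H9.DCF.ModuleCase
import Groth.Agent.S7048

/-!
# Derived completions whose cohomology is the adic completion: basic lemmas
-/

set_option autoImplicit false
universe u
open CategoryTheory CategoryTheory.Limits CategoryTheory.Pretriangulated Opposite

attribute [local instance] HasDerivedCategory.standard

namespace Groth.Agent.H9.DCF

open Groth.Agent.H9.RG Groth.Agent.H9.DC DerivedCategory

variable {A : Type u} [CommRing A] (I : Ideal A)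

/-- `η : K ⟶ C` is a derived completion of `K` -/
def IsDC {K C : Dual.D A} (η : K ⟶ C) : Prop :=
  DRing.IsDerivedComplete I C ∧ LocEq (DRing.IsDerivedComplete I) η

/-- `H^n(η)` is an adic completion map -/
def ComplAt {K C : Dual.D A} (η : K ⟶ C) (n : ℤ) : Prop :=
  IsComplHom I ((homologyFunctor (ModuleCat.{u} A) n).map η)

/-- every derived completion of `K` induces adic completions on cohomology -/
def PC (K : Dual.D A) : Prop :=
  ∀ (C : Dual.D A) (η : K ⟶ C), IsDC I η → ∀ n : ℤ, ComplAt I η n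

variable {I}

lemma ComplAt.of_iso_right {K C C' : Dual.D A} {η : K ⟶ C} {η' : K ⟶ C'} (e : C ≅ C')
    (he : η ≫ e.hom = η') (n : ℤ) (h : ComplAt I η n) : ComplAt I η' n := by
  refine IsComplHom.of_square' (𝟙 _) ((homologyFunctor (ModuleCat.{u} A) n).map e.hom) ?_ h
  rw [Category.id_comp, ← Functor.map_comp, he]

lemma IsDC.exists_iso {K C C' : Dual.D A} {η : K ⟶ C} {η' : K ⟶ C'} (h : IsDC I η)
    (h' : IsDC I η') : ∃ e : C ≅ C', η ≫ e.hom = η' :=
  exists_iso_of_universal (DRing.IsDerivedComplete I) η η' h.1 h'.1 h.2.universal h'.2.universal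

lemma PC_of_one {K C : Dual.D A} (η : K ⟶ C) (hη : IsDC I η) (h : ∀ n : ℤ, ComplAt I η n) :
    PC I K := by
  intro C' η' hη' n
  obtain ⟨e, he⟩ := hη.exists_iso hη'
  exact (h n).of_iso_right e he n

lemma isDC_toDerivedCompletion [DRing.HasDerivedCompletion I] (K : Dual.D A) :
    IsDC I (DRing.toDerivedCompletion I K) :=
  ⟨((DRing.derivedCompletion I).obj K).property, locEq_toDerivedCompletion I K⟩

lemma IsDC.of_iso_left {K K' C : Dual.D A} (e : K ≅ K') {η' : K' ⟶ C} (h : IsDC I η') :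
    IsDC I (e.hom ≫ η') :=
  ⟨h.1, LocEq.comp (LocEq.of_isIso _ _) h.2⟩

lemma PC.of_iso {K K' : Dual.D A} (e : K ≅ K') (h : PC I K) : PC I K' := by
  intro C η' hη' n
  have h1 := h _ (e.hom ≫ η') (hη'.of_iso_left e) n
  refine IsComplHom.of_square' ((homologyFunctor (ModuleCat.{u} A) n).map e.hom) (𝟙 _) ?_ h1
  rw [Category.comp_id, ← Functor.map_comp]

lemma ComplAt.subsingleton {K C : Dual.D A} {η : K ⟶ C} {n : ℤ} (h : ComplAt I η n)
    (hK : Subsingleton (Dual.HD A K n)) : Subsingleton (Dual.HD A C n) := by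
  obtain ⟨e, -⟩ := h
  haveI : Subsingleton (AdicCompletion I
      ((homologyFunctor (ModuleCat.{u} A) n).obj K)) := by
    refine ⟨fun x y => ?_⟩
    apply AdicCompletion.ext
    intro m
    haveI : Subsingleton ((homologyFunctor (ModuleCat.{u} A) n).obj K) := hK
    exact Subsingleton.elim _ _
  exact e.toEquiv.subsingleton

/-- LES: `H^n(mor₁)` is an isomorphism if `H^{n-1}` and `H^n` of the third object vanish -/
lemma isIso_homologyMap_mor₁ (T : Triangle (Dual.D A)) (hT : T ∈ distTriang (Dual.D A)) (n : ℤ)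
    (h0 : Subsingleton (Dual.HD A T.obj₃ (n - 1))) (h1 : Subsingleton (Dual.HD A T.obj₃ n)) :
    IsIso ((homologyFunctor (ModuleCat.{u} A) n).map T.mor₁) := by
  have hz0 : IsZero ((homologyFunctor (ModuleCat.{u} A) (n - 1)).obj T.obj₃) :=
    ModuleCat.isZero_of_subsingleton _
  have hz1 : IsZero ((homologyFunctor (ModuleCat.{u} A) n).obj T.obj₃) :=
    ModuleCat.isZero_of_subsingleton _
  have hm : Mono ((homologyFunctor (ModuleCat.{u} A) n).map T.mor₁) :=
    (HomologySequence.mono_homologyMap_mor₁_iff _ hT (n - 1) n (by omega)).2 (hz0.eq_of_src _ _)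
  have he : Epi ((homologyFunctor (ModuleCat.{u} A) n).map T.mor₁) :=
    (HomologySequence.epi_homologyMap_mor₁_iff _ hT n).2 (hz1.eq_of_tgt _ _)
  exact isIso_of_mono_of_epi _

/-- LES: `H^n(mor₂)` is an isomorphism if `H^n` and `H^{n+1}` of the first object vanish -/
lemma isIso_homologyMap_mor₂ (T : Triangle (Dual.D A)) (hT : T ∈ distTriang (Dual.D A)) (n : ℤ)
    (h0 : Subsingleton (Dual.HD A T.obj₁ n)) (h1 : Subsingleton (Dual.HD A T.obj₁ (n + 1))) :
    IsIso ((homologyFunctor (ModuleCat.{u} A) n).map T.mor₂) := by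
  have hz0 : IsZero ((homologyFunctor (ModuleCat.{u} A) n).obj T.obj₁) :=
    ModuleCat.isZero_of_subsingleton _
  have hz1 : IsZero ((homologyFunctor (ModuleCat.{u} A) (n + 1)).obj T.obj₁) :=
    ModuleCat.isZero_of_subsingleton _
  have hm : Mono ((homologyFunctor (ModuleCat.{u} A) n).map T.mor₂) :=
    (HomologySequence.mono_homologyMap_mor₂_iff _ hT n).2 (hz0.eq_of_src _ _)
  have he : Epi ((homologyFunctor (ModuleCat.{u} A) n).map T.mor₂) :=
    (HomologySequence.epi_homologyMap_mor₂_iff _ hT n (n + 1) rfl).2 (hz1.eq_of_tgt _ _)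
  exact isIso_of_mono_of_epi _

/-- the completed triangle, with the comparison on cones -/
theorem exists_completed_triangle [DRing.HasDerivedCompletion I] {K L : Dual.D A} (φ : K ⟶ L)
    {Z : Dual.D A} (g : L ⟶ Z) (h : Z ⟶ K⟦(1 : ℤ)⟧)
    (hT : Triangle.mk φ g h ∈ distTriang (Dual.D A)) :
    ∃ (W : Dual.D A) (g' : ((DRing.derivedCompletion I).obj L).obj ⟶ W)
      (h' : W ⟶ (((DRing.derivedCompletion I).obj K).obj)⟦(1 : ℤ)⟧) (ζ : Z ⟶ W),
      Triangle.mk ((DRing.derivedCompletion I).map φ).hom g' h' ∈ distTriang (Dual.D A) ∧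
      g ≫ ζ = DRing.toDerivedCompletion I L ≫ g' ∧ IsDC I ζ := by
  obtain ⟨W, g', h', hT'⟩ := distinguished_cocone_triangle ((DRing.derivedCompletion I).map φ).hom
  have comm₁ : φ ≫ DRing.toDerivedCompletion I L =
      DRing.toDerivedCompletion I K ≫ ((DRing.derivedCompletion I).map φ).hom :=
    (DRing.derivedCompletionAdj I).unit.naturality φ
  obtain ⟨ζ, comm₂, comm₃⟩ := complete_distinguished_triangle_morphism _ _ hT hT'
    (DRing.toDerivedCompletion I K) (DRing.toDerivedCompletion I L) comm₁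
  have hζ : LocEq (DRing.IsDerivedComplete I) ζ :=
    locEq_of_triangles (isDerivedComplete_shift I) φ g h hT _ g' h' hT' _ _ ζ comm₁ comm₂ comm₃
      (locEq_toDerivedCompletion I K) (locEq_toDerivedCompletion I L)
  have hW : DRing.IsDerivedComplete I W :=
    isDerivedComplete_of_triangle I _ hT' ((DRing.derivedCompletion I).obj K).property
      ((DRing.derivedCompletion I).obj L).property
  exact ⟨W, g', h', ζ, hT', comm₂, hW, hζ⟩

end Groth.Agent.H9.DCF
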