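import Mathlib
import Groth.Agent.H9.DCF.Basic
import Groth.Agent.H9.DC.Concrete

/-!
# Dévissage step for "cohomology of the derived completion is the adic completion"
-/

set_option autoImplicit false
universe u
open CategoryTheory CategoryTheory.Limits CategoryTheory.Pretriangulated Opposite

attribute [local instance] HasDerivedCategory.standard

namespace Groth.Agent.H9.DCF

open Groth.Agent.H9.RG Groth.Agent.H9.DC DerivedCategory

variable {A : Type u} [CommRing A] {I : Ideal A}

/-- **dévissage step** -/
theorem PC_of_triangle (hI : I.FG) {X K Y : Dual.D A} (φ : X ⟶ K) (g : K ⟶ Y)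
    (h : Y ⟶ X⟦(1 : ℤ)⟧) (hT : Triangle.mk φ g h ∈ distTriang (Dual.D A)) (b : ℤ)
    (hX : ∀ n : ℤ, b ≤ n → Subsingleton (Dual.HD A X n))
    (hY : ∀ n : ℤ, n < b → Subsingleton (Dual.HD A Y n))
    (pX : PC I X) (pY : PC I Y) : PC I K := by
  haveI := hasDerivedCompletion I hI
  refine PC_of_one (DRing.toDerivedCompletion I K) (isDC_toDerivedCompletion K) (fun n => ?_)
  obtain ⟨W, g', h', ζ, hT', comm₂, hζ⟩ := exists_completed_triangle (I := I) φ g h hT
  have comm₁ : φ ≫ DRing.toDerivedCompletion I K =
      DRing.toDerivedCompletion I X ≫ ((DRing.derivedCompletion I).map φ).hom :=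
    (DRing.derivedCompletionAdj I).unit.naturality φ
  have cX := pX _ (DRing.toDerivedCompletion I X) (isDC_toDerivedCompletion X)
  have cY := pY _ ζ hζ
  by_cases hn : n < b
  · -- compare with `X`
    haveI : IsIso ((homologyFunctor (ModuleCat.{u} A) n).map φ) :=
      isIso_homologyMap_mor₁ (Triangle.mk φ g h) hT n (hY _ (by omega)) (hY _ hn)
    haveI : IsIso ((homologyFunctor (ModuleCat.{u} A) n).map
        ((DRing.derivedCompletion I).map φ).hom) :=
      isIso_homologyMap_mor₁ (Triangle.mk ((DRing.derivedCompletion I).map φ).hom g' h') hT' n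
        ((cY (n - 1)).subsingleton (hY _ (by omega))) ((cY n).subsingleton (hY _ hn))
    refine IsComplHom.of_square' ((homologyFunctor (ModuleCat.{u} A) n).map φ)
      ((homologyFunctor (ModuleCat.{u} A) n).map ((DRing.derivedCompletion I).map φ).hom) ?_
      (cX n)
    rw [← Functor.map_comp, ← Functor.map_comp, comm₁]
  · -- compare with `Y`
    haveI : IsIso ((homologyFunctor (ModuleCat.{u} A) n).map g) :=
      isIso_homologyMap_mor₂ (Triangle.mk φ g h) hT n (hX _ (by omega)) (hX _ (by omega))
    haveI : IsIso ((homologyFunctor (ModuleCat.{u} A) n).map g') :=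
      isIso_homologyMap_mor₂ (Triangle.mk ((DRing.derivedCompletion I).map φ).hom g' h') hT' n
        ((cX n).subsingleton (hX _ (by omega))) ((cX (n + 1)).subsingleton (hX _ (by omega)))
    refine IsComplHom.of_square ((homologyFunctor (ModuleCat.{u} A) n).map g)
      ((homologyFunctor (ModuleCat.{u} A) n).map g') ?_ (cY n)
    rw [← Functor.map_comp, ← Functor.map_comp, comm₂]

end Groth.Agent.H9.DCF
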