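import Mathlib
import Groth.Agent.H9.DCF.Step
import Groth.Agent.H9.LD.HomToInjective

/-!
# Objects with cohomology in a single degree
-/

set_option autoImplicit false
universe u
open CategoryTheory CategoryTheory.Limits CategoryTheory.Pretriangulated Opposite

attribute [local instance] HasDerivedCategory.standard

namespace Groth.Agent.H9.DCF

open Groth.Agent.H9.RG Groth.Agent.H9.DC DerivedCategory Groth.Agent.H9.LD

variable {A : Type u} [CommRing A] [IsNoetherianRing A] (I : Ideal A)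
  (N : Type u) [AddCommGroup N] [Module A N] [Module.Finite A N]

lemma isDC_c0 : IsDC I (c0 I N) := by
  haveI : IsAdicComplete I (AdicCompletion I N) :=
    AdicCompletion.isAdicComplete (IsNoetherian.noetherian I)
  exact ⟨Groth.Agent.S7048.result I (AdicCompletion I N), locEq_c0 I N⟩

lemma isDC_c0_shift (m : ℤ) : IsDC I ((c0 I N)⟦m⟧') :=
  ⟨isDerivedComplete_shift I _ (isDC_c0 I N).1 m,
    (isDC_c0 I N).2.shift (isDerivedComplete_shift I) m⟩

lemma subsingleton_HD_inD (M : Type u) [AddCommGroup M] [Module A M] (k : ℤ) (hk : k ≠ 0) :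
    Subsingleton (Dual.HD A (Dual.inD A M) k) := by
  rcases lt_or_gt_of_ne hk with h | h
  · exact ModuleCat.subsingleton_of_isZero (isZero_of_isGE (Dual.inD A M) 0 k h)
  · exact ModuleCat.subsingleton_of_isZero (isZero_of_isLE (Dual.inD A M) 0 k h)

lemma complAt_c0 (k : ℤ) : ComplAt I (c0 I N) k := by
  by_cases hk : k = 0
  · subst hk
    let e := singleFunctorCompHomologyFunctorIso (ModuleCat.{u} A) 0
    have nat := e.hom.naturality (ModuleCat.ofHom (AdicCompletion.of I N))
    refine IsComplHom.of_square (e.hom.app (ModuleCat.of A N))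
      (e.hom.app (ModuleCat.of A (AdicCompletion I N))) ?_ (isComplHom_of N)
    exact nat
  · haveI := subsingleton_HD_inD (A := A) N k hk
    haveI := subsingleton_HD_inD (A := A) (AdicCompletion I N) k hk
    exact IsComplHom.of_subsingleton _

lemma complAt_c0_shift (m n : ℤ) : ComplAt I ((c0 I N)⟦m⟧') n := by
  let e := (homologyFunctor (ModuleCat.{u} A) 0).shiftIso m n (m + n) rfl
  have nat := e.hom.naturality (c0 I N)
  let a : (homologyFunctor (ModuleCat.{u} A) n).obj ((Dual.inD A N)⟦m⟧) ⟶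
      (homologyFunctor (ModuleCat.{u} A) (m + n)).obj (Dual.inD A N) := e.hom.app (Dual.inD A N)
  let a' : (homologyFunctor (ModuleCat.{u} A) n).obj ((Dual.inD A (AdicCompletion I N))⟦m⟧) ⟶
      (homologyFunctor (ModuleCat.{u} A) (m + n)).obj (Dual.inD A (AdicCompletion I N)) :=
    e.hom.app (Dual.inD A (AdicCompletion I N))
  haveI : IsIso a := (e.app (Dual.inD A N)).isIso_hom
  haveI : IsIso a' := (e.app (Dual.inD A (AdicCompletion I N))).isIso_hom
  exact IsComplHom.of_square a a' nat (complAt_c0 I N (m + n))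

/-- **module case, shifted** -/
theorem PC_inD_shift (m : ℤ) : PC I ((Dual.inD A N)⟦m⟧) :=
  PC_of_one _ (isDC_c0_shift I N m) (complAt_c0_shift I N m)

omit [IsNoetherianRing A] in
lemma nonempty_iso_single_shift (Y : Dual.D A) (b : ℤ) [Y.IsGE b] [Y.IsLE b] :
    ∃ (M : ModuleCat.{u} A), Nonempty (Y ≅ ((singleFunctor (ModuleCat.{u} A) 0).obj M)⟦-b⟧) ∧
      Nonempty (M ≅ (homologyFunctor (ModuleCat.{u} A) b).obj Y) := by
  haveI : (Y⟦b⟧).IsGE 0 := (tS A).isGE_shift Y b b 0 (by omega)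
  haveI : (Y⟦b⟧).IsLE 0 := (tS A).isLE_shift Y b b 0 (by omega)
  obtain ⟨M, ⟨e⟩⟩ := exists_iso_singleFunctor_obj_of_isGE_of_isLE (Y⟦b⟧) 0
  refine ⟨M, ⟨((shiftFunctorCompIsoId (Dual.D A) b (-b) (by omega)).app Y).symm ≪≫
    (shiftFunctor (Dual.D A) (-b)).mapIso e⟩, ⟨?_⟩⟩
  exact ((singleFunctorCompHomologyFunctorIso (ModuleCat.{u} A) 0).app M).symm ≪≫
    (homologyFunctor (ModuleCat.{u} A) 0).mapIso e.symm ≪≫
    ((homologyFunctor (ModuleCat.{u} A) 0).shiftIso b 0 b (by omega)).app Y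

/-- **heart case** -/
theorem PC_of_heart (Y : Dual.D A) (b : ℤ) [Y.IsGE b] [Y.IsLE b]
    (hfin : Module.Finite A (Dual.HD A Y b)) : PC I Y := by
  obtain ⟨M, ⟨e⟩, ⟨e'⟩⟩ := nonempty_iso_single_shift Y b
  haveI : Module.Finite A M := Module.Finite.equiv e'.toLinearEquiv.symm
  exact (PC_inD_shift I M (-b)).of_iso e.symm

end Groth.Agent.H9.DCF
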