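import Mathlib
import Groth.Agent.H9.DCF.Heart

/-!
# Bounded complexes with finite cohomology: cohomology of the derived completion
-/

set_option autoImplicit false
universe u
open CategoryTheory CategoryTheory.Limits CategoryTheory.Pretriangulated Opposite

attribute [local instance] HasDerivedCategory.standard

namespace Groth.Agent.H9.DCF

open Groth.Agent.H9.RG Groth.Agent.H9.DC DerivedCategory Groth.Agent.H9.LD

variable {A : Type u} [CommRing A]

lemma subsingleton_HD_of_isGE (X : Dual.D A) (a n : ℤ) (h : n < a) [X.IsGE a] :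
    Subsingleton (Dual.HD A X n) :=
  ModuleCat.subsingleton_of_isZero (isZero_of_isGE X a n h)

lemma subsingleton_HD_of_isLE (X : Dual.D A) (b n : ℤ) (h : b < n) [X.IsLE b] :
    Subsingleton (Dual.HD A X n) :=
  ModuleCat.subsingleton_of_isZero (isZero_of_isLE X b n h)

variable [IsNoetherianRing A]

/-- cohomology of `τ≤a K` is finite -/
lemma finite_HD_truncLE (K : Dual.D A) (hK : ∀ n : ℤ, Module.Finite A (Dual.HD A K n)) (a n : ℤ) :
    Module.Finite A (Dual.HD A (((tS A).truncLE a).obj K) n) := by
  by_cases hn : a < n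
  · haveI := subsingleton_HD_of_isLE (((tS A).truncLE a).obj K) a n hn
    infer_instance
  · have hT := (tS A).triangleLEGT_distinguished a K
    haveI hGE : (((tS A).truncGT a).obj K).IsGE (a + 1) :=
      inferInstanceAs ((tS A).IsGE (((tS A).truncGT a).obj K) (a + 1))
    have hz0 : IsZero ((homologyFunctor (ModuleCat.{u} A) (n - 1)).obj (((tS A).truncGT a).obj K)) :=
      isZero_of_isGE _ (a + 1) (n - 1) (by omega)
    have hm : Mono ((homologyFunctor (ModuleCat.{u} A) n).map ((tS A).truncLEι a |>.app K)) :=
      (HomologySequence.mono_homologyMap_mor₁_iff _ hT (n - 1) n (by omega)).2 (hz0.eq_of_src _ _)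
    haveI := hK n
    let f : (homologyFunctor (ModuleCat.{u} A) n).obj (((tS A).truncLE a).obj K) ⟶
        (homologyFunctor (ModuleCat.{u} A) n).obj K :=
      (homologyFunctor (ModuleCat.{u} A) n).map ((tS A).truncLEι a |>.app K)
    haveI : IsNoetherian A ((homologyFunctor (ModuleCat.{u} A) n).obj K) :=
      isNoetherian_of_isNoetherianRing_of_finite A _
    exact Module.Finite.of_injective f.hom ((ModuleCat.mono_iff_injective f).1 hm)

/-- cohomology of `τ≥a K` is finite -/
lemma finite_HD_truncGE (K : Dual.D A) (hK : ∀ n : ℤ, Module.Finite A (Dual.HD A K n)) (a n : ℤ) :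
    Module.Finite A (Dual.HD A (((tS A).truncGE a).obj K) n) := by
  by_cases hn : n < a
  · haveI : (((tS A).truncGE a).obj K).IsGE a :=
      inferInstanceAs ((tS A).IsGE (((tS A).truncGE a).obj K) a)
    haveI := subsingleton_HD_of_isGE (((tS A).truncGE a).obj K) a n hn
    infer_instance
  · have hT := (tS A).triangleLTGE_distinguished a K
    haveI hLE : (((tS A).truncLT a).obj K).IsLE (a - 1) :=
      inferInstanceAs ((tS A).IsLE (((tS A).truncLT a).obj K) (a - 1))
    have hz1 : IsZero ((homologyFunctor (ModuleCat.{u} A) (n + 1)).obj (((tS A).truncLT a).obj K)) :=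
      isZero_of_isLE _ (a - 1) (n + 1) (by omega)
    have he : Epi ((homologyFunctor (ModuleCat.{u} A) n).map ((tS A).truncGEπ a |>.app K)) :=
      (HomologySequence.epi_homologyMap_mor₂_iff _ hT n (n + 1) rfl).2 (hz1.eq_of_tgt _ _)
    haveI := hK n
    let f : (homologyFunctor (ModuleCat.{u} A) n).obj K ⟶
        (homologyFunctor (ModuleCat.{u} A) n).obj (((tS A).truncGE a).obj K) :=
      (homologyFunctor (ModuleCat.{u} A) n).map ((tS A).truncGEπ a |>.app K)
    exact Module.Finite.of_surjective f.hom ((ModuleCat.epi_iff_surjective f).1 he)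

/-- induction on the amplitude -/
theorem PC_of_amplitude (I : Ideal A) : ∀ (k : ℕ) (b : ℤ) (K : Dual.D A), K.IsLE b → K.IsGE (b - k) →
    (∀ n : ℤ, Module.Finite A (Dual.HD A K n)) → PC I K := by
  intro k
  induction k with
  | zero =>
    intro b K hLE hGE hfin
    haveI := hLE
    haveI : K.IsGE b := by
      have : b - ((0 : ℕ) : ℤ) = b := by simp
      rw [this] at hGE
      exact hGE
    exact PC_of_heart I K b (hfin b)
  | succ k ih =>
    intro b K hLE hGE hfin
    haveI := hLE
    haveI := hGE
    have hT := (tS A).triangleLEGE_distinguished (b - 1) b (by omega) K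
    let X := ((tS A).truncLE (b - 1)).obj K
    let Y := ((tS A).truncGE b).obj K
    haveI hXLE : X.IsLE (b - 1) := inferInstanceAs ((tS A).IsLE (((tS A).truncLE (b - 1)).obj K) (b - 1))
    haveI hXGE : X.IsGE (b - 1 - k) := by
      haveI : (tS A).IsGE K (b - 1 - k) := by
        have : b - ((k + 1 : ℕ) : ℤ) = b - 1 - k := by push_cast; ring
        rw [this] at hGE
        exact hGE
      exact inferInstanceAs ((tS A).IsGE (((tS A).truncLE (b - 1)).obj K) (b - 1 - k))
    haveI hYGE : Y.IsGE b := inferInstanceAs ((tS A).IsGE (((tS A).truncGE b).obj K) b)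
    haveI hYLE : Y.IsLE b := by
      haveI : (tS A).IsLE K b := hLE
      exact inferInstanceAs ((tS A).IsLE (((tS A).truncGE b).obj K) b)
    have pX : PC I X := ih (b - 1) X hXLE hXGE (finite_HD_truncLE K hfin (b - 1))
    have pY : PC I Y := PC_of_heart I Y b (finite_HD_truncGE K hfin b b)
    exact PC_of_triangle (IsNoetherian.noetherian I) _ _ _ hT b
      (fun n hn => subsingleton_HD_of_isLE X (b - 1) n (by omega))
      (fun n hn => subsingleton_HD_of_isGE Y b n hn) pX pY

end Groth.Agent.H9.DCF
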