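import Mathlib
import Groth.Agent.H9.DCF.Bounded

/-!
# Cohomology of the derived completion of a complex with finite cohomology (Noetherian ring)
-/

set_option autoImplicit false
universe u
open CategoryTheory CategoryTheory.Limits CategoryTheory.Pretriangulated Opposite

attribute [local instance] HasDerivedCategory.standard

namespace Groth.Agent.H9.DCF

open Groth.Agent.H9.RG Groth.Agent.H9.DC DerivedCategory Groth.Agent.H9.LD

variable {A : Type u} [CommRing A]

/-- transfer along a morphism whose cone has no cohomology in a window -/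
theorem complAt_transfer (I : Ideal A) (fs : List A) (hfs : Ideal.span {x | x ∈ fs} = I)
    [DRing.HasDerivedCompletion I] {K L Z : Dual.D A} (φ : K ⟶ L) (g : L ⟶ Z)
    (h : Z ⟶ K⟦(1 : ℤ)⟧) (hT : Triangle.mk φ g h ∈ distTriang (Dual.D A)) (n : ℤ)
    (hZ : ∀ k : ℤ, n - 1 ≤ k → k ≤ n + fs.length → Subsingleton (Dual.HD A Z k)) :
    ComplAt I (DRing.toDerivedCompletion I K) n ↔ ComplAt I (DRing.toDerivedCompletion I L) n := by
  obtain ⟨W, g', h', hT', hb⟩ := exists_cone_completion I fs hfs φ g h hT
  have hW : ∀ i : ℤ, n - 1 ≤ i → i ≤ n → Subsingleton (Dual.HD A W i) := by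
    intro i hi1 hi2
    rw [subsingleton_HD_iff]
    apply hb
    intro k hk1 hk2
    rw [← subsingleton_HD_iff]
    exact hZ k (by omega) (by omega)
  have comm₁ : φ ≫ DRing.toDerivedCompletion I L =
      DRing.toDerivedCompletion I K ≫ ((DRing.derivedCompletion I).map φ).hom :=
    (DRing.derivedCompletionAdj I).unit.naturality φ
  haveI : IsIso ((homologyFunctor (ModuleCat.{u} A) n).map φ) :=
    isIso_homologyMap_mor₁ (Triangle.mk φ g h) hT n (hZ _ (by omega) (by omega))
      (hZ _ (by omega) (by omega))
  haveI : IsIso ((homologyFunctor (ModuleCat.{u} A) n).map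
      ((DRing.derivedCompletion I).map φ).hom) :=
    isIso_homologyMap_mor₁ (Triangle.mk ((DRing.derivedCompletion I).map φ).hom g' h') hT' n
      (hW _ (by omega) (by omega)) (hW _ (by omega) (by omega))
  have sq : (homologyFunctor (ModuleCat.{u} A) n).map (DRing.toDerivedCompletion I K) ≫
      (homologyFunctor (ModuleCat.{u} A) n).map ((DRing.derivedCompletion I).map φ).hom =
      (homologyFunctor (ModuleCat.{u} A) n).map φ ≫
      (homologyFunctor (ModuleCat.{u} A) n).map (DRing.toDerivedCompletion I L) := by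
    rw [← Functor.map_comp, ← Functor.map_comp, comm₁]
  exact ⟨fun hK => IsComplHom.of_square' _ _ sq hK, fun hL => IsComplHom.of_square _ _ sq hL⟩

variable [IsNoetherianRing A]

/-- **DCF**: for `K` with finite cohomology modules over a Noetherian ring, the cohomology of any
derived completion of `K` is the adic completion of the cohomology of `K` -/
theorem PC_of_finite (I : Ideal A) (K : Dual.D A)
    (hK : ∀ n : ℤ, Module.Finite A (Dual.HD A K n)) : PC I K := by
  classical
  have hI : I.FG := IsNoetherian.noetherian I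
  haveI := hasDerivedCompletion I hI
  obtain ⟨s, hs⟩ := hI
  have hfs : Ideal.span {x | x ∈ s.toList} = I := by
    rw [← hs]
    congr 1
    ext x
    simp
  refine PC_of_one (DRing.toDerivedCompletion I K) (isDC_toDerivedCompletion K) (fun n => ?_)
  set r : ℕ := s.toList.length with hr
  -- first truncation
  let K1 := ((tS A).truncLE (n + r)).obj K
  have hT1 := (tS A).triangleLEGT_distinguished (n + r) K
  haveI hZ1 : (((tS A).truncGT (n + r)).obj K).IsGE (n + r + 1) :=
    inferInstanceAs ((tS A).IsGE (((tS A).truncGT (n + r)).obj K) (n + r + 1))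
  have t1 := complAt_transfer I s.toList hfs _ _ _ hT1 n
    (fun k _ hk2 => subsingleton_HD_of_isGE _ (n + r + 1) k (by omega))
  -- second truncation
  let K2 := ((tS A).truncGE n).obj K1
  have hT2 := rot_of_distTriang _ ((tS A).triangleLTGE_distinguished n K1)
  haveI hX2 : (((tS A).truncLT n).obj K1).IsLE (n - 1) :=
    inferInstanceAs ((tS A).IsLE (((tS A).truncLT n).obj K1) (n - 1))
  haveI hZ2 : ((((tS A).truncLT n).obj K1)⟦(1 : ℤ)⟧).IsLE (n - 2) :=
    (tS A).isLE_shift _ (n - 1) 1 (n - 2) (by omega)
  have t2 := complAt_transfer I s.toList hfs _ _ _ hT2 n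
    (fun k hk1 _ => subsingleton_HD_of_isLE
      ((((tS A).truncLT n).obj K1)⟦(1 : ℤ)⟧) (n - 2) k (by omega))
  -- the bounded complex
  haveI hK1 : K1.IsLE (n + r) :=
    inferInstanceAs ((tS A).IsLE (((tS A).truncLE (n + r)).obj K) (n + r))
  haveI hK2LE : K2.IsLE (n + r) := by
    haveI : (tS A).IsLE K1 (n + r) := hK1
    exact inferInstanceAs ((tS A).IsLE (((tS A).truncGE n).obj K1) (n + r))
  haveI hK2GE : K2.IsGE (n + r - (r : ℕ)) := by
    have : n + (r : ℤ) - ((r : ℕ) : ℤ) = n := by omega
    rw [this]
    exact inferInstanceAs ((tS A).IsGE (((tS A).truncGE n).obj K1) n)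
  have p2 : PC I K2 := PC_of_amplitude I r (n + r) K2 hK2LE hK2GE
    (finite_HD_truncGE K1 (finite_HD_truncLE K hK (n + r)) n)
  have c2 := p2 _ (DRing.toDerivedCompletion I K2) (isDC_toDerivedCompletion K2) n
  exact t1.1 (t2.2 c2)

end Groth.Agent.H9.DCF
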